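import Cfsg.Agent.Lib.SympUnipCount.Free
import Cfsg.Agent.Lib.Aschbacher.Forms

/-!
Splitting of a symplectic matrix along its generalised eigenspace for the eigenvalue `1`, and the
count of unipotent elements.
-/

set_option autoImplicit false
set_option linter.unusedSectionVars false

namespace CfsgLib.SympUnipCount

open Module Finset
open scoped Matrix
open CfsgLib.IsotropicCount (sympB sympB_apply sympB_alt sympB_nondeg)

variable {F : Type*} [Field F] [Fintype F] {m k b : ℕ}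

/-- `g - 1` as an endomorphism. -/
noncomputable def T (g : Gp F m) : Module.End F (Vc F m) := Matrix.toLinAlgEquiv' (g.1 - 1)

theorem T_apply (g : Gp F m) (v : Vc F m) : T g v = g.1 *ᵥ v - v := by
  rw [T, Matrix.toLinAlgEquiv'_apply, Matrix.sub_mulVec, Matrix.one_mulVec]

/-- The generalised fixed space. -/
noncomputable def Wg (g : Gp F m) : Submodule F (Vc F m) := LinearMap.ker (T g ^ (2 * m + 1))

theorem ker_pow_eq (g : Gp F m) {N : ℕ} (h : 2 * m ≤ N) : LinearMap.ker (T g ^ N) = Wg g := by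
  have hd : finrank F (Vc F m) = 2 * m := by simp [two_mul]
  rw [Wg, Module.End.ker_pow_eq_ker_pow_finrank_of_le (hd.trans_le h),
    Module.End.ker_pow_eq_ker_pow_finrank_of_le (m := 2 * m + 1) (by omega)]

theorem ortho (g : Gp F m) : ∀ (n : ℕ) (w : Vc F m), (T g ^ n) w = 0 →
    ∀ x, sympB m F ((T g ^ n) x) w = 0 := by
  intro n
  induction n with
  | zero =>
    intro w hw x
    rw [pow_zero, Module.End.one_apply] at hw ⊢
    rw [hw, map_zero]
  | succ n ih =>
    intro w hw x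
    rw [pow_succ, Module.End.mul_apply] at hw
    rw [pow_succ', Module.End.mul_apply]
    set y := (T g ^ n) x with hy
    have h1 : sympB m F (g.1 *ᵥ y) (g.1 *ᵥ w) = sympB m F y w := sympB_map g y w
    have h2 : sympB m F (T g y) w = - sympB m F (g.1 *ᵥ y) (T g w) := by
      rw [T_apply, T_apply, map_sub, map_sub, LinearMap.sub_apply, h1]; ring
    have h3 : g.1 *ᵥ y = (T g ^ n) (g.1 *ᵥ x) := by
      have hg : g.1 *ᵥ x = T g x + x := by rw [T_apply, sub_add_cancel]
      rw [hg, map_add, ← Module.End.mul_apply, ← pow_succ, pow_succ', Module.End.mul_apply, ← hy, T_apply,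
        sub_add_cancel]
    rw [h2, h3, ih _ hw, neg_zero]

theorem Wg_nondeg (g : Gp F m) : ∀ u ∈ Wg g, (∀ v ∈ Wg g, sympB m F u v = 0) → u = 0 := by
  intro u hu h
  set N := 2 * m + 1
  have hdisj : Disjoint (Wg g) (LinearMap.range (T g ^ N)) := by
    rw [Submodule.disjoint_def]
    rintro z hz ⟨x, rfl⟩
    have hx : x ∈ LinearMap.ker (T g ^ (N + N)) := by
      rw [LinearMap.mem_ker, pow_add, Module.End.mul_apply]; exact hz
    rw [ker_pow_eq g (by omega)] at hx
    exact hx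
  have htop : Wg g ⊔ LinearMap.range (T g ^ N) = ⊤ := by
    apply Submodule.eq_top_of_disjoint _ _ _ hdisj
    have h := LinearMap.finrank_range_add_finrank_ker (T g ^ N)
    show _ ≤ finrank F ↥(LinearMap.ker (T g ^ N)) + _
    omega
  refine sympB_nondeg.1 u fun z => ?_
  obtain ⟨w, hw, r, ⟨x, rfl⟩, rfl⟩ := Submodule.mem_sup.1 (htop ▸ Submodule.mem_top : z ∈ Wg g ⊔ _)
  rw [map_add, h w hw, sympB_alt.isRefl _ _ (ortho g N u hu x), add_zero]

theorem even_Wg (g : Gp F m) : Even (finrank F (Wg g)) := by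
  refine CfsgLib.Aschbacher.even_finrank_of_alternating (f := fun u v => sympB m F u v)
    ⟨fun x y v => by simp, fun c x v => by simp, fun v x y => by simp, fun c v x => by simp⟩
    (fun v => sympB_alt v) _ (Wg g) rfl fun w hw hw0 => ?_
  by_contra hne
  push Not at hne
  exact hw0 (Wg_nondeg g w hw hne)

theorem Wg_conj (a g : Gp F m) (z : Vc F m) : a.1 *ᵥ z ∈ Wg (a * g * a⁻¹) ↔ z ∈ Wg g := by
  have h : ∀ n (z : Vc F m), (T (a * g * a⁻¹) ^ n) (a.1 *ᵥ z) = a.1 *ᵥ ((T g ^ n) z) := by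
    intro n
    induction n with
    | zero => intro z; simp
    | succ n ih =>
      intro z
      rw [pow_succ, pow_succ, Module.End.mul_apply, Module.End.mul_apply]
      have : T (a * g * a⁻¹) (a.1 *ᵥ z) = a.1 *ᵥ (T g z) := by
        rw [T_apply, T_apply, ← SympGen.mul_apply, inv_mul_cancel_right, SympGen.mul_apply, Matrix.mulVec_sub]
      rw [this, ih]
  rw [Wg, Wg, LinearMap.mem_ker, LinearMap.mem_ker, h]
  refine ⟨fun h0 => ?_, fun h0 => by rw [h0, Matrix.mulVec_zero]⟩
  have := congrArg (fun y => (a⁻¹).1 *ᵥ y) h0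
  simp only [← SympGen.mul_apply, inv_mul_cancel, SympGen.one_apply, Matrix.mulVec_zero] at this
  exact this

open CfsgLib.SympBlocks (W0 Φ Φ_injective Φ_apply stabilizing_W0 exists_frame)

/-- The index map of the split. -/
abbrev eS (k b : ℕ) := CfsgLib.SympBlocks.e k b

theorem Φ_apply_left (p : Gp F k × Gp F b) (x : Vc F (k + b)) (i : Fin k ⊕ Fin k) :
    ((Φ k b p).1 *ᵥ x) ((eS k b).symm (Sum.inl i)) =
      (p.1.1 *ᵥ fun j => x ((eS k b).symm (Sum.inl j))) i := by
  show ((Matrix.fromBlocks p.1.1 0 0 p.2.1).submatrix (eS k b) (eS k b) *ᵥ x) _ = _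
  rw [Matrix.submatrix_mulVec_equiv, Function.comp_apply, Equiv.apply_symm_apply, Matrix.fromBlocks_mulVec]
  simp only [Sum.elim_inl, Matrix.zero_mulVec, add_zero]
  rfl

/-- First coordinates. -/
def pa (k b : ℕ) (x : Vc F (k + b)) : Vc F k := fun j => x ((eS k b).symm (Sum.inl j))
/-- Last coordinates. -/
def pb (k b : ℕ) (x : Vc F (k + b)) : Vc F b := fun j => x ((eS k b).symm (Sum.inr j))

theorem pa_pow (p : Gp F k × Gp F b) (n : ℕ) (x : Vc F (k + b)) :
    pa k b ((T (Φ k b p) ^ n) x) = (T p.1 ^ n) (pa k b x) ∧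
      pb k b ((T (Φ k b p) ^ n) x) = (T p.2 ^ n) (pb k b x) := by
  induction n generalizing x with
  | zero => simp
  | succ n ih =>
    rw [pow_succ, pow_succ, pow_succ, Module.End.mul_apply, Module.End.mul_apply, Module.End.mul_apply,
      (ih _).1, (ih _).2]
    constructor <;> congr 1 <;> funext i <;> simp only [pa, pb, T_apply, Pi.sub_apply]
    · rw [Φ_apply_left]; rfl
    · rw [Φ_apply]; rfl

theorem eq_zero_iff_parts (x : Vc F (k + b)) : x = 0 ↔ pa k b x = 0 ∧ pb k b x = 0 := by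
  refine ⟨fun h => by subst h; exact ⟨rfl, rfl⟩, fun h => funext fun r => ?_⟩
  obtain ⟨r, rfl⟩ := (eS k b).symm.surjective r
  rcases r with r | r
  · exact congrFun h.1 r
  · exact congrFun h.2 r

theorem mem_W0 (x : Vc F (k + b)) : x ∈ W0 F k b ↔ pb k b x = 0 :=
  ⟨fun h => funext h, fun h i => congrFun h i⟩

theorem noFix_iff (g : Gp F m) : NoFix g ↔ LinearMap.ker (T g ^ (2 * m + 1)) = ⊥ := by
  have h0 : NoFix g ↔ Function.Injective (T g) := by
    rw [injective_iff_map_eq_zero]; simp [NoFix, T_apply, sub_eq_zero]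
  rw [LinearMap.ker_eq_bot, h0]
  refine ⟨fun h => ?_, fun h => ?_⟩
  · rw [Module.End.coe_pow]; exact h.iterate _
  · rw [pow_succ, Module.End.coe_mul] at h; exact h.of_comp

/-- Unipotence. -/
def Unip (g : Gp F m) : Prop := Wg g = ⊤

theorem Wg_Φ_iff (p : Gp F k × Gp F b) :
    ((Wg (Φ k b p) : Set (Vc F (k + b))) = W0 F k b) ↔ Unip p.1 ∧ NoFix p.2 := by
  have hmem : ∀ x, x ∈ Wg (Φ k b p) ↔ pa k b x ∈ Wg p.1 ∧ pb k b x ∈ Wg p.2 := by
    intro x
    rw [← ker_pow_eq p.1 (show 2 * k ≤ 2 * (k + b) + 1 by omega),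
      ← ker_pow_eq p.2 (show 2 * b ≤ 2 * (k + b) + 1 by omega), Wg, LinearMap.mem_ker, LinearMap.mem_ker,
      LinearMap.mem_ker, eq_zero_iff_parts, (pa_pow p _ x).1, (pa_pow p _ x).2]
  have hsurj : ∀ (u : Vc F k) (v : Vc F b), ∃ x, pa k b x = u ∧ pb k b x = v := fun u v =>
    ⟨fun r => Sum.elim u v (eS k b r), funext fun i => by simp [pa], funext fun i => by simp [pb]⟩
  constructor
  · intro h
    have h' : ∀ x, x ∈ Wg (Φ k b p) ↔ pb k b x = 0 := fun x => by
      rw [← mem_W0]; exact Set.ext_iff.1 h x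
    constructor
    · refine eq_top_iff.2 fun u _ => ?_
      obtain ⟨x, hx1, hx2⟩ := hsurj u 0
      exact hx1 ▸ ((hmem x).1 ((h' x).2 hx2)).1
    · rw [noFix_iff, eq_bot_iff]
      intro v hv
      obtain ⟨x, hx1, hx2⟩ := hsurj 0 v
      exact hx2 ▸ (h' x).1 ((hmem x).2 ⟨hx1.symm ▸ zero_mem _, hx2.symm ▸ hv⟩)
  · rintro ⟨h1, h2⟩
    rw [noFix_iff] at h2
    ext x
    rw [SetLike.mem_coe, hmem, mem_W0, h1, show Wg p.2 = ⊥ from h2, Submodule.mem_bot]
    simp

theorem exists_W0_map (W : Submodule F (Vc F (k + b))) (hWk : finrank F W = 2 * k)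
    (hW : ∀ u ∈ W, (∀ v ∈ W, sympB (k + b) F u v = 0) → u = 0) :
    ∃ g : Gp F (k + b), ∀ x, x ∈ W0 F k b ↔ g.1 *ᵥ x ∈ W := by
  obtain ⟨g, hg⟩ := exists_frame k (k + b) (by omega) W hWk (fun u hu h => hW u hu fun v hv => by
    rw [sympB_apply]; exact h v hv)
  let c : Fin k ⊕ Fin k → Vc F (k + b) := fun i => Pi.single ((eS k b).symm (Sum.inl i)) 1
  have hdec : ∀ x ∈ W0 F k b, x = ∑ i, x ((eS k b).symm (Sum.inl i)) • c i := by
    intro x hx
    funext r
    simp only [Finset.sum_apply, Pi.smul_apply, c, smul_eq_mul, Pi.single_apply]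
    obtain ⟨r, rfl⟩ := (eS k b).symm.surjective r
    rcases r with r | r
    · rw [Finset.sum_eq_single r] <;> simp +contextual [eq_comm]
    · rw [hx r]; symm; exact Finset.sum_eq_zero fun i _ => by simp
  have hcW : ∀ i, g.1 *ᵥ c i ∈ W := by
    rintro (i | i)
    · have : (eS k b).symm (Sum.inl (Sum.inl i)) = Sum.inl (Fin.castAdd b i) := by
        simp [CfsgLib.SympBlocks.e, Equiv.sumSumSumComm]
      show g.1 *ᵥ Pi.single _ 1 ∈ W
      rw [this]; exact (hg _ (by simp)).2
    · have : (eS k b).symm (Sum.inl (Sum.inr i)) = Sum.inr (Fin.castAdd b i) := by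
        simp [CfsgLib.SympBlocks.e, Equiv.sumSumSumComm]
      show g.1 *ᵥ Pi.single _ 1 ∈ W
      rw [this]; exact (hg _ (by simp)).1
  have hin : ∀ x ∈ W0 F k b, g.1 *ᵥ x ∈ W := by
    intro x hx
    rw [hdec x hx, Matrix.mulVec_sum]
    exact W.sum_mem fun i _ => by rw [Matrix.mulVec_smul]; exact W.smul_mem _ (hcW i)
  have hinj : Function.Injective (Matrix.mulVecLin g.1) := fun x y h => by
    have := congrArg (fun z => (g⁻¹).1 *ᵥ z) h
    simp only [Matrix.mulVecLin_apply, ← SympGen.mul_apply, inv_mul_cancel, SympGen.one_apply] at this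
    exact this
  have heq : (Submodule.span F (Set.range c)).map (Matrix.mulVecLin g.1) = W := by
    refine Submodule.eq_of_le_of_finrank_eq ?_ ?_
    · rw [Submodule.map_span, Submodule.span_le]
      rintro _ ⟨_, ⟨i, rfl⟩, rfl⟩
      exact hcW i
    · have hli : LinearIndependent F c :=
        (Pi.linearIndependent_single_one (Fin (k + b) ⊕ Fin (k + b)) F).comp _
          ((eS k b).symm.injective.comp Sum.inl_injective)
      rw [← LinearEquiv.finrank_eq (Submodule.equivMapOfInjective _ hinj _), finrank_span_eq_card hli,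
        hWk, Fintype.card_sum, Fintype.card_fin]
      omega
  refine ⟨g, fun x => ⟨hin x, fun hx => ?_⟩⟩
  rw [← heq] at hx
  obtain ⟨y, hy, hyx⟩ := hx
  rw [← hinj hyx]
  clear hyx
  intro i
  induction hy using Submodule.span_induction with
  | mem y hy => obtain ⟨l, rfl⟩ := hy; simp [c]
  | zero => rfl
  | add y y' _ _ h h' => simp [h, h']
  | smul r y _ h => simp [h]

theorem card_dim_eq (k b : ℕ) :
    Nat.card {g : Gp F (k + b) // finrank F (Wg g) = 2 * k} * (Nat.card (Gp F k) * Nat.card (Gp F b)) =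
      Nat.card (Gp F (k + b)) *
        (Nat.card {g : Gp F k // Unip g} * Nat.card {g : Gp F b // NoFix g}) := by
  have htr : ∀ x : {g : Gp F (k + b) // finrank F (Wg g) = 2 * k},
      ∃ a : Gp F (k + b), ∀ z, z ∈ W0 F k b ↔ a.1 *ᵥ z ∈ Wg x.1 :=
    fun x => exists_W0_map _ x.2 (Wg_nondeg x.1)
  choose a ha using htr
  have hW : ∀ (u : Gp F (k + b)) (p : Gp F k × Gp F b), Unip p.1 ∧ NoFix p.2 →
      ∀ z, z ∈ W0 F k b ↔ u.1 *ᵥ z ∈ Wg (u * Φ k b p * u⁻¹) := fun u p hp z => by
    rw [Wg_conj, ← (Wg_Φ_iff p).2 hp]; rfl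
  have hdim : ∀ (u : Gp F (k + b)) (p : Gp F k × Gp F b), Unip p.1 ∧ NoFix p.2 →
      finrank F (Wg (u * Φ k b p * u⁻¹)) = 2 * k := by
    intro u p hp
    let emb : Vc F k →ₗ[F] Vc F (k + b) :=
      { toFun := fun y r => Sum.elim y (fun _ => 0) (eS k b r)
        map_add' := fun y y' => funext fun r => by
          rcases h : eS k b r with i | i <;> simp [h]
        map_smul' := fun c y => funext fun r => by
          rcases h : eS k b r with i | i <;> simp [h] }
    have hinj : Function.Injective ((Matrix.mulVecLin u.1).comp emb) := by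
      refine Function.Injective.comp (g := Matrix.mulVecLin u.1) (fun x y h => ?_) fun y y' h => funext fun i => ?_
      · have := congrArg (fun z => (u⁻¹).1 *ᵥ z) h
        simp only [Matrix.mulVecLin_apply, ← SympGen.mul_apply, inv_mul_cancel, SympGen.one_apply] at this
        exact this
      · have := congrFun h ((eS k b).symm (Sum.inl i))
        simpa [emb] using this
    have hr : Wg (u * Φ k b p * u⁻¹) = LinearMap.range ((Matrix.mulVecLin u.1).comp emb) := by
      ext z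
      constructor
      · intro hz
        have hz' : u.1 *ᵥ ((u⁻¹).1 *ᵥ z) ∈ Wg (u * Φ k b p * u⁻¹) := by
          rw [← SympGen.mul_apply, mul_inv_cancel, SympGen.one_apply]; exact hz
        have h0 := (mem_W0 _).1 ((hW u p hp _).2 hz')
        refine ⟨pa k b ((u⁻¹).1 *ᵥ z), ?_⟩
        have : emb (pa k b ((u⁻¹).1 *ᵥ z)) = (u⁻¹).1 *ᵥ z := funext fun r => by
          obtain ⟨r, rfl⟩ := (eS k b).symm.surjective r
          rcases r with r | r
          · simp [emb, pa]
          · have := congrFun h0 r; simp [emb, pb] at this ⊢; exact this.symm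
        rw [LinearMap.comp_apply, this, Matrix.mulVecLin_apply, ← SympGen.mul_apply, mul_inv_cancel,
          SympGen.one_apply]
      · rintro ⟨y, rfl⟩
        refine (hW u p hp _).1 ((mem_W0 _).2 (funext fun i => ?_))
        simp [pb, emb]
    rw [hr, LinearMap.finrank_range_of_inj hinj]
    simp [two_mul]
  have hst : ∀ (x : Gp F (k + b)) (u v : Gp F (k + b)), (∀ z, z ∈ W0 F k b ↔ u.1 *ᵥ z ∈ Wg x) →
      (∀ z, z ∈ W0 F k b ↔ v.1 *ᵥ z ∈ Wg x) → u⁻¹ * v ∈ (Φ (F := F) k b).range := by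
    intro x u v hu hv
    rw [← stabilizing_W0]
    intro z
    show z ∈ W0 F k b ↔ (u⁻¹ * v).1 *ᵥ z ∈ W0 F k b
    rw [hu ((u⁻¹ * v).1 *ᵥ z), ← SympGen.mul_apply, mul_inv_cancel_left, ← hv]
  let P := {p : Gp F k × Gp F b // Unip p.1 ∧ NoFix p.2}
  have hP : Nat.card P = Nat.card {g : Gp F k // Unip g} * Nat.card {g : Gp F b // NoFix g} := by
    rw [← Nat.card_prod]
    exact Nat.card_congr (Equiv.subtypeProdEquivProd (p := Unip) (q := NoFix))
  rw [← hP, ← Nat.card_prod (Gp F k) (Gp F b), ← Nat.card_prod _ P, ← Nat.card_prod]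
  let xx : Gp F (k + b) × P → {g : Gp F (k + b) // finrank F (Wg g) = 2 * k} := fun q =>
    ⟨q.1 * Φ k b q.2.1 * q.1⁻¹, hdim _ _ q.2.2⟩
  have hh : ∀ q, ∃ h, Φ k b h = (a (xx q))⁻¹ * q.1 := fun q =>
    hst (xx q).1 _ _ (ha (xx q)) (hW q.1 q.2.1 q.2.2)
  choose hf hhf using hh
  symm
  refine Nat.card_eq_of_bijective (fun q => (xx q, hf q)) ⟨fun q q' h => ?_, fun y => ?_⟩
  · simp only [Prod.mk.injEq] at h
    have h1 : q.1 = q'.1 := by
      have e1 := hhf q
      rw [h.2, hhf q', h.1] at e1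
      exact (mul_left_cancel e1).symm
    have h2 := congrArg Subtype.val h.1
    simp only [xx, h1, mul_left_inj, mul_right_inj] at h2
    exact Prod.ext h1 (Subtype.ext (Φ_injective h2))
  · obtain ⟨x, c⟩ := y
    set u := a x * Φ k b c with hu
    have hux : ∀ z, z ∈ W0 F k b ↔ u.1 *ᵥ z ∈ Wg x.1 := fun z => by
      have hc : Φ k b c ∈ Cfsg.stabilizing (Cfsg.spToMat (k + b) F) (W0 F k b) := by
        rw [stabilizing_W0]; exact ⟨c, rfl⟩
      rw [hu, SympGen.mul_apply, ← ha]; exact hc z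
    have hy : u⁻¹ * x.1 * u ∈ (Φ (F := F) k b).range := by
      rw [← stabilizing_W0]
      intro z
      show z ∈ W0 F k b ↔ (u⁻¹ * x.1 * u).1 *ᵥ z ∈ W0 F k b
      rw [hux ((u⁻¹ * x.1 * u).1 *ᵥ z), ← SympGen.mul_apply, ← mul_assoc, mul_inv_cancel_left,
        SympGen.mul_apply, hux]
      have hc := Wg_conj x.1 x.1 (u.1 *ᵥ z)
      rw [mul_inv_cancel_right] at hc
      rw [hc]
    obtain ⟨p, hp⟩ := hy
    have hpP : Unip p.1 ∧ NoFix p.2 := (Wg_Φ_iff p).1 (Set.ext fun z => by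
      rw [hux, hp, SetLike.mem_coe, ← Wg_conj u, ← mul_assoc, mul_inv_cancel_left, mul_inv_cancel_right])
    have hxe : xx (u, ⟨p, hpP⟩) = x := Subtype.ext (by
      show u * Φ k b p * u⁻¹ = x.1
      rw [hp, ← mul_assoc, mul_inv_cancel_left, mul_inv_cancel_right])
    refine ⟨(u, ⟨p, hpP⟩), Prod.ext hxe (Φ_injective ?_)⟩
    rw [hhf, hxe, hu, inv_mul_cancel_left]

theorem card_Gp (n : ℕ) :
    (Nat.card (Gp F n) : ℝ) = (Fintype.card F : ℝ) ^ (n * n) * Pp (Fintype.card F : ℝ) n := by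
  induction n with
  | zero =>
    haveI : Unique (Gp F 0) := ⟨⟨1⟩, fun g => Subtype.ext (Subsingleton.elim _ _)⟩
    simp [Pp]
  | succ n ih =>
    rw [CfsgLib.SympBlocks.card_step, Nat.cast_mul, Nat.cast_mul,
      Nat.cast_sub (Nat.one_le_pow _ _ Fintype.card_pos), Nat.cast_pow, Nat.cast_pow, Nat.cast_one, ih,
      show Pp (Fintype.card F : ℝ) (n + 1) = Pp (Fintype.card F : ℝ) n *
        ((Fintype.card F : ℝ) ^ (2 * (n + 1)) - 1) from Finset.prod_range_succ _ _]
    ring

theorem card_unip (m : ℕ) : Nat.card {g : Gp F m // Unip g} = Fintype.card F ^ (2 * m ^ 2) := by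
  classical
  induction m using Nat.strong_induction_on with
  | _ m ih =>
  set q : ℝ := (Fintype.card F : ℝ) with hqdef
  have hq : (1 : ℝ) < q := by rw [hqdef]; exact_mod_cast Fintype.one_lt_card (α := F)
  have hterm : ∀ p ∈ antidiagonal m,
      (Nat.card {g : Gp F m // finrank F (Wg g) = 2 * p.1} : ℝ) =
        Nat.card (Gp F m) * ((Nat.card {g : Gp F p.1 // Unip g} : ℝ) / Nat.card (Gp F p.1) *
          ∑ j ∈ range (p.2 + 1), cs q j) := by
    rintro ⟨k, b⟩ hp
    rw [HasAntidiagonal.mem_antidiagonal] at hp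
    subst hp
    have h := congrArg (Nat.cast (R := ℝ)) (card_dim_eq (F := F) k b)
    push_cast at h
    rw [card_noFix b, ← hqdef] at h
    have h1 : (Nat.card (Gp F k) : ℝ) ≠ 0 := Nat.cast_ne_zero.2 Nat.card_pos.ne'
    have h2 : (Nat.card (Gp F b) : ℝ) ≠ 0 := Nat.cast_ne_zero.2 Nat.card_pos.ne'
    simp only
    field_simp
    exact mul_right_cancel₀ h2 (by linear_combination h)
  have hsum : (Nat.card (Gp F m) : ℝ) =
      ∑ p ∈ antidiagonal m, (Nat.card {g : Gp F m // finrank F (Wg g) = 2 * p.1} : ℝ) := by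
    rw [← Nat.cast_sum, Nat.card_eq_fintype_card (α := Gp F m), ← Finset.card_univ,
      Finset.card_eq_sum_card_fiberwise (f := fun g : Gp F m =>
        ((finrank F (Wg g) / 2, m - finrank F (Wg g) / 2) : ℕ × ℕ)) (t := antidiagonal m)]
    · congr 1
      refine Finset.sum_congr rfl fun p hp => ?_
      rw [HasAntidiagonal.mem_antidiagonal] at hp
      rw [Nat.card_eq_fintype_card, Fintype.card_subtype]
      congr 1
      ext g
      simp only [mem_filter, mem_univ, true_and]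
      obtain ⟨t, ht⟩ := even_Wg g
      obtain ⟨k, b⟩ := p
      simp only [Prod.mk.injEq] at hp ⊢
      omega
    · intro g _
      have := finrank_le (Wg g)
      simp only [Finset.mem_coe, HasAntidiagonal.mem_antidiagonal]
      omega
  rw [Finset.sum_congr rfl hterm, ← mul_sum] at hsum
  have hone : ∑ p ∈ antidiagonal m, (Nat.card {g : Gp F p.1 // Unip g} : ℝ) / Nat.card (Gp F p.1) *
      ∑ j ∈ range (p.2 + 1), cs q j = 1 :=
    mul_left_cancel₀ (Nat.cast_ne_zero.2 (Nat.card_pos (α := Gp F m)).ne') (by rw [← hsum, mul_one])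
  have hu : ∀ k, k < m → (Nat.card {g : Gp F k // Unip g} : ℝ) / Nat.card (Gp F k) = zs q k := fun k hk => by
    rw [ih k hk, card_Gp, Nat.cast_pow, ← hqdef, zs, show 2 * k ^ 2 = k * k + k * k by ring, pow_add]
    have := (Pp_pos hq k).ne'
    have : q ^ (k * k) ≠ 0 := pow_ne_zero _ (by linarith)
    field_simp
  have hz := zs_partial hq m
  rw [← hz] at hone
  rw [← sub_eq_zero, ← Finset.sum_sub_distrib, Finset.sum_eq_single (m, 0)] at hone
  · simp only [zero_add, Finset.sum_range_one] at hone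
    have hc : cs q 0 = 1 := by simp [cs, Pp]
    rw [hc, mul_one, mul_one, sub_eq_zero, card_Gp, ← hqdef, zs,
      div_eq_div_iff (mul_ne_zero (pow_ne_zero _ (by linarith)) (Pp_pos hq m).ne') (Pp_pos hq m).ne'] at hone
    have h3 : (Nat.card {g : Gp F m // Unip g} : ℝ) = q ^ (2 * m ^ 2) :=
      mul_right_cancel₀ (Pp_pos hq m).ne' (by rw [hone, show 2 * m ^ 2 = m * m + m * m by ring, pow_add]; ring)
    rw [hqdef] at h3
    exact_mod_cast h3
  · rintro ⟨k, j⟩ hp hne
    rw [HasAntidiagonal.mem_antidiagonal] at hp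
    simp only at hp ⊢
    rw [hu k (by
      by_contra hk
      exact hne (Prod.ext (show k = m by omega) (show j = 0 by omega))), sub_self]
  · intro h
    exact absurd (by simp) h

theorem unip_iff_order (p : ℕ) [Fact p.Prime] [CharP F p] (g : Gp F m) :
    (∃ j : ℕ, orderOf g = p ^ j) ↔ Unip g := by
  have hpp := (Fact.out : p.Prime)
  rcases Nat.eq_zero_or_pos m with rfl | hm
  · refine ⟨fun _ => ?_, fun _ => ⟨0, by rw [pow_zero, orderOf_eq_one_iff]; exact Subtype.ext (Subsingleton.elim _ _)⟩⟩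
    exact Submodule.eq_top_iff'.2 fun v => by rw [Subsingleton.elim v 0]; exact zero_mem _
  haveI : Nonempty (Fin m ⊕ Fin m) := ⟨Sum.inl ⟨0, hm⟩⟩
  have key : ∀ j, T g ^ p ^ j = Matrix.toLinAlgEquiv' ((g ^ p ^ j : Gp F m).1 - 1) := fun j => by
    rw [T, ← map_pow, sub_pow_char_pow_of_commute (p := p) (n := j) (Commute.one_right g.1), one_pow]
    rfl
  constructor
  · rintro ⟨j, hj⟩
    have hT : T g ^ p ^ j = 0 := by
      rw [key, ← hj, pow_orderOf_eq_one]; simp
    refine Submodule.eq_top_iff'.2 fun v => ?_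
    rw [← ker_pow_eq g (N := p ^ j + 2 * m) (by omega), LinearMap.mem_ker, pow_add, hT, zero_mul,
      LinearMap.zero_apply]
  · intro h
    obtain ⟨j, hj⟩ : ∃ j, 2 * m + 1 ≤ p ^ j := ⟨2 * m + 1, (Nat.lt_pow_self hpp.one_lt).le⟩
    have hT : T g ^ p ^ j = 0 := by
      refine LinearMap.ext fun v => ?_
      rw [LinearMap.zero_apply, ← LinearMap.mem_ker, ker_pow_eq g (by omega), h]
      trivial
    rw [key, map_eq_zero_iff _ (AlgEquiv.injective _), sub_eq_zero] at hT
    obtain ⟨i, -, hi⟩ := (Nat.dvd_prime_pow hpp).1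
      (orderOf_dvd_of_pow_eq_one (show g ^ p ^ j = 1 from Subtype.ext hT))
    exact ⟨i, hi⟩

theorem card_pElements (p : ℕ) [Fact p.Prime] [CharP F p] (m : ℕ) :
    Nat.card {g : Gp F m // ∃ j : ℕ, orderOf g = p ^ j} = Fintype.card F ^ (2 * m ^ 2) := by
  rw [← card_unip m]
  exact Nat.card_congr (Equiv.subtypeEquivRight (unip_iff_order p))

end CfsgLib.SympUnipCount
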