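import Mathlib

/-!
The `q`-series identities behind Steinberg's count of unipotent symplectic matrices, in finite form.
-/

set_option autoImplicit false

namespace CfsgLib.SympUnipCount

open Finset

variable (q : ℝ)

/-- `∏ (q^(2i) - 1)`. -/
noncomputable def Pp (n : ℕ) : ℝ := ∏ i ∈ range n, (q ^ (2 * (i + 1)) - 1)
/-- `∏ (q^i - 1)`. -/
noncomputable def Qq (n : ℕ) : ℝ := ∏ i ∈ range n, (q ^ (i + 1) - 1)
noncomputable def xs (s : ℕ) : ℝ := q ^ (s * (s - 1)) / Pp q s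
noncomputable def ys (r : ℕ) : ℝ := (-1) ^ r / Qq q r
noncomputable def cs (n : ℕ) : ℝ := (-1) ^ n * q ^ n / Pp q n
noncomputable def zs (k : ℕ) : ℝ := q ^ (k * k) / Pp q k
noncomputable def conv (n : ℕ) : ℝ := ∑ p ∈ antidiagonal n, xs q p.1 * ys q p.2
noncomputable def econv (n : ℕ) : ℝ := ∑ p ∈ antidiagonal n, q ^ p.2 * (xs q p.1 * ys q p.2)
noncomputable def hh (e d : ℕ) : ℝ := (∏ i ∈ range d, (q ^ e - q ^ i)) / Qq q d

variable {q} (hq : 1 < q)

include hq

theorem pow_sub_one_ne (k : ℕ) (hk : k ≠ 0) : q ^ k - 1 ≠ 0 :=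
  (sub_pos.2 (one_lt_pow₀ hq hk)).ne'

theorem Pp_pos (n : ℕ) : 0 < Pp q n :=
  prod_pos fun i _ => sub_pos.2 (one_lt_pow₀ hq (by omega))

theorem Qq_pos (n : ℕ) : 0 < Qq q n :=
  prod_pos fun i _ => sub_pos.2 (one_lt_pow₀ hq (by omega))

theorem xs_succ (s : ℕ) : xs q (s + 1) * (q ^ (2 * (s + 1)) - 1) = q ^ (2 * s) * xs q s := by
  have h1 := pow_sub_one_ne hq (2 * (s + 1)) (by omega)
  have h2 := (Pp_pos hq s).ne'
  have e : (s + 1) * (s + 1 - 1) = 2 * s + s * (s - 1) := by cases s <;> simp; ring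
  rw [xs, xs, Pp, prod_range_succ, ← Pp, e, pow_add]
  field_simp

theorem ys_succ (r : ℕ) : ys q (r + 1) * (q ^ (r + 1) - 1) = - ys q r := by
  have h1 := pow_sub_one_ne hq (r + 1) (by omega)
  have h2 := (Qq_pos hq r).ne'
  rw [ys, ys, Qq, prod_range_succ, ← Qq, pow_succ (-1 : ℝ) r]
  field_simp

theorem cs_succ (n : ℕ) : cs q (n + 1) * (q ^ (2 * (n + 1)) - 1) = -(q * cs q n) := by
  have h1 := pow_sub_one_ne hq (2 * (n + 1)) (by omega)
  have h2 := (Pp_pos hq n).ne'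
  rw [cs, cs, Pp, prod_range_succ, ← Pp, pow_succ (-1 : ℝ) n, pow_succ q n]
  field_simp

theorem zs_succ (k : ℕ) : zs q (k + 1) * (q ^ (2 * (k + 1)) - 1) = q ^ (2 * k + 1) * zs q k := by
  have h1 := pow_sub_one_ne hq (2 * (k + 1)) (by omega)
  have h2 := (Pp_pos hq k).ne'
  rw [zs, zs, Pp, prod_range_succ, ← Pp, show (k + 1) * (k + 1) = (2 * k + 1) + k * k by ring, pow_add]
  field_simp

theorem econv_sub (n : ℕ) : econv q (n + 1) = conv q (n + 1) - conv q n := by
  have h : econv q (n + 1) - conv q (n + 1) = - conv q n := by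
    rw [econv, conv, conv, ← sum_sub_distrib, Nat.sum_antidiagonal_succ', ← sum_neg_distrib]
    simp only [pow_zero, one_mul, sub_self, zero_add]
    refine sum_congr rfl fun p _ => ?_
    rw [show q ^ (p.2 + 1) * (xs q p.1 * ys q (p.2 + 1)) - xs q p.1 * ys q (p.2 + 1) =
      xs q p.1 * (ys q (p.2 + 1) * (q ^ (p.2 + 1) - 1)) by ring, ys_succ hq]
    ring
  linarith

theorem conv_succ (n : ℕ) :
    conv q (n + 1) * (q ^ (2 * (n + 1)) - 1) = (q ^ (2 * n) - 1) * conv q n - q * econv q n := by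
  have h : conv q (n + 1) * (q ^ (2 * (n + 1)) - 1) =
      (∑ p ∈ antidiagonal (n + 1), xs q p.1 * (q ^ (2 * p.1) - 1) * (q ^ (2 * p.2) * ys q p.2)) +
      ∑ p ∈ antidiagonal (n + 1), xs q p.1 * (ys q p.2 * (q ^ (2 * p.2) - 1)) := by
    rw [conv, sum_mul, ← sum_add_distrib]
    refine sum_congr rfl fun p hp => ?_
    rw [Finset.HasAntidiagonal.mem_antidiagonal] at hp
    rw [← hp, mul_add 2, pow_add]; ring
  rw [h, Nat.sum_antidiagonal_succ, Nat.sum_antidiagonal_succ']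
  simp only [Nat.mul_zero, pow_zero, sub_self, mul_zero, zero_mul, zero_add, conv, econv, mul_sum,
    ← sum_sub_distrib, ← sum_add_distrib]
  refine sum_congr rfl fun p hp => ?_
  rw [Finset.HasAntidiagonal.mem_antidiagonal] at hp
  have e : ys q (p.2 + 1) * (q ^ (2 * (p.2 + 1)) - 1) = - ys q p.2 * (q ^ (p.2 + 1) + 1) := by
    rw [show q ^ (2 * (p.2 + 1)) - 1 = (q ^ (p.2 + 1) - 1) * (q ^ (p.2 + 1) + 1) by
      rw [mul_comm 2, pow_mul]; ring, ← mul_assoc, ys_succ hq]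
  rw [xs_succ hq, e, ← hp, mul_add 2, pow_add q (2 * p.1)]
  ring

theorem conv_eq (n : ℕ) : conv q n = cs q n := by
  induction n using Nat.strong_induction_on with
  | _ n ih =>
    match n, ih with
    | 0, _ => simp [conv, cs, xs, ys, Pp, Qq]
    | 1, _ =>
      have h := conv_succ hq 0
      have h2 := cs_succ hq 0
      have hc : conv q 0 = cs q 0 := by simp [conv, cs, xs, ys, Pp, Qq]
      have he : econv q 0 = conv q 0 := by simp [conv, econv]
      apply mul_right_cancel₀ (pow_sub_one_ne hq (2 * (0 + 1)) (by omega))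
      rw [h, h2, he, hc]; ring
    | n + 2, ih =>
      apply mul_right_cancel₀ (pow_sub_one_ne hq (2 * (n + 1 + 1)) (by omega))
      rw [conv_succ hq (n + 1), econv_sub hq, cs_succ hq (n + 1), ih (n + 1) (by omega), ih n (by omega)]
      have := cs_succ hq n
      linarith

theorem zs_cs_conv (n : ℕ) : ∑ p ∈ antidiagonal (n + 1), zs q p.1 * cs q p.2 = 0 := by
  apply mul_right_cancel₀ (pow_sub_one_ne hq (2 * (n + 1)) (by omega))
  have h : (∑ p ∈ antidiagonal (n + 1), zs q p.1 * cs q p.2) * (q ^ (2 * (n + 1)) - 1) =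
      (∑ p ∈ antidiagonal (n + 1), zs q p.1 * (q ^ (2 * p.1) - 1) * cs q p.2) +
      ∑ p ∈ antidiagonal (n + 1), q ^ (2 * p.1) * zs q p.1 * (cs q p.2 * (q ^ (2 * p.2) - 1)) := by
    rw [sum_mul, ← sum_add_distrib]
    refine sum_congr rfl fun p hp => ?_
    rw [Finset.HasAntidiagonal.mem_antidiagonal] at hp
    rw [← hp, mul_add 2, pow_add]; ring
  rw [h, Nat.sum_antidiagonal_succ, Nat.sum_antidiagonal_succ']
  simp only [Nat.mul_zero, pow_zero, sub_self, mul_zero, zero_mul, zero_add, ← sum_add_distrib]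
  refine sum_eq_zero fun p _ => ?_
  rw [zs_succ hq, cs_succ hq, pow_succ q (2 * p.1)]
  ring

theorem zs_partial (m : ℕ) :
    ∑ p ∈ antidiagonal m, zs q p.1 * (∑ j ∈ range (p.2 + 1), cs q j) = 1 := by
  induction m with
  | zero => simp [zs, cs, Pp]
  | succ m ih =>
    rw [Nat.sum_antidiagonal_succ']
    have h := zs_cs_conv hq m
    rw [Nat.sum_antidiagonal_succ'] at h
    have e : ∀ p ∈ antidiagonal m, zs q p.1 * (∑ j ∈ range (p.2 + 1 + 1), cs q j) =
        zs q p.1 * (∑ j ∈ range (p.2 + 1), cs q j) + zs q p.1 * cs q (p.2 + 1) := fun p _ => by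
      rw [sum_range_succ _ (p.2 + 1), mul_add]
    rw [sum_congr rfl e, sum_add_distrib, ih]
    norm_num [sum_range_one] at h ⊢
    linarith

theorem hh_zero (e : ℕ) : hh q e 0 = 1 := by simp [hh, Qq]

theorem hh_eq_zero {e d : ℕ} (h : e < d) : hh q e d = 0 := by
  rw [hh, prod_eq_zero (mem_range.2 h) (sub_self _), zero_div]

theorem hh_pascal (e d : ℕ) :
    hh q (e + 1) (d + 1) = q ^ d * hh q e d + q ^ (d + 1) * hh q e (d + 1) := by
  have h1 := pow_sub_one_ne hq (d + 1) (by omega)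
  have h2 := (Qq_pos hq d).ne'
  have h3 : ∏ i ∈ range (d + 1), (q ^ (e + 1) - q ^ i) =
      (q ^ (e + 1) - 1) * q ^ d * ∏ i ∈ range d, (q ^ e - q ^ i) := by
    rw [prod_range_succ']
    have : ∀ i ∈ range d, q ^ (e + 1) - q ^ (i + 1) = q * (q ^ e - q ^ i) := fun i _ => by ring
    rw [prod_congr rfl this, prod_mul_distrib, prod_const, card_range, pow_zero]
    ring
  rw [hh, hh, hh, h3, prod_range_succ, Qq, prod_range_succ, ← Qq]
  field_simp
  ring

theorem hh_alt (e D : ℕ) (h : e < D) :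
    ∑ d ∈ range D, (-1 : ℝ) ^ d * hh q e d = if e = 0 then 1 else 0 := by
  match e, D, h with
  | 0, D + 1, _ =>
    rw [sum_range_succ', if_pos rfl]
    simp [hh_zero hq, hh_eq_zero hq (Nat.succ_pos _)]
  | e + 1, D + 1, h =>
    rw [sum_range_succ', if_neg (Nat.succ_ne_zero e)]
    let a : ℕ → ℝ := fun d => (-1) ^ d * q ^ d * hh q e d
    have : ∀ d ∈ range D, (-1 : ℝ) ^ (d + 1) * hh q (e + 1) (d + 1) = a (d + 1) - a d := fun d _ => by
      simp only [a]; rw [hh_pascal hq, pow_succ (-1 : ℝ) d]; ring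
    rw [sum_congr rfl this, sum_range_sub a]
    simp [a, hh_zero hq, hh_eq_zero hq (show e < D by omega)]

end CfsgLib.SympUnipCount
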