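import Cfsg.Agent.Lib.IsotropicSymp
import Cfsg.Agent.Lib.SympBlocks
import Cfsg.Agent.Lib.SympUnipCount.Numeric

/-!
The elements of `Sp` without a fixed vector: an orbit count on linearly independent tuples.
-/

set_option autoImplicit false
set_option linter.unusedSectionVars false

namespace CfsgLib.SympUnipCount

open Module
open scoped Matrix
open CfsgLib.IsotropicCount (sympB sympB_apply sympB_alt sympB_nondeg symp_extend)

/-- Counting fixed pairs on a set cut into orbits by `π`. -/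
theorem pairs_count {H α β : Type*} [Group H] [Finite H] [Finite α] (act : H → α → α)
    (hone : ∀ a, act 1 a = a) (hmul : ∀ g h a, act (g * h) a = act g (act h a))
    (T : Set α) (hT : ∀ h, ∀ a ∈ T, act h a ∈ T) (π : α → β)
    (hinv : ∀ h, ∀ a ∈ T, π (act h a) = π a)
    (htr : ∀ a ∈ T, ∀ b ∈ T, π a = π b → ∃ h, act h a = b) :
    Nat.card {p : H × α // p.2 ∈ T ∧ act p.1 p.2 = p.2} = Nat.card H * (π '' T).ncard := by
  have hrep : ∀ c : π '' T, ∃ a ∈ T, π a = c := fun c => c.2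
  choose rep hrepT hrepπ using hrep
  have htrans : ∀ a : T, ∃ h, act h (rep ⟨π a, a, a.2, rfl⟩) = a := fun a =>
    htr _ (hrepT _) _ a.2 (hrepπ _)
  choose t ht using htrans
  rw [← Nat.card_coe_set_eq, ← Nat.card_prod]
  refine Nat.card_congr
    { toFun := fun p => (p.1.1 * t ⟨p.1.2, p.2.1⟩, ⟨π p.1.2, p.1.2, p.2.1, rfl⟩)
      invFun := fun q => ⟨(q.1 * (t ⟨act q.1 (rep q.2), hT _ _ (hrepT _)⟩)⁻¹, act q.1 (rep q.2)),
        hT _ _ (hrepT _), ?_⟩
      left_inv := ?_
      right_inv := ?_ }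
  · have h := ht ⟨act q.1 (rep q.2), hT _ _ (hrepT _)⟩
    have e : (⟨π (act q.1 (rep q.2)), act q.1 (rep q.2), hT _ _ (hrepT _), rfl⟩ : π '' T) = q.2 :=
      Subtype.ext ((hinv _ _ (hrepT _)).trans (hrepπ _))
    simp only at h
    rw [e] at h
    exact (congrArg (act _) h.symm).trans ((hmul _ _ _).symm.trans (by rw [inv_mul_cancel_right]))
  · intro p
    obtain ⟨⟨h, v⟩, hv, hfix⟩ := p
    have e : act (h * t ⟨v, hv⟩) (rep ⟨π v, v, hv, rfl⟩) = v := by rw [hmul, ht ⟨v, hv⟩, hfix]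
    apply Subtype.ext
    simp only [e, mul_inv_cancel_right]
  · intro q
    obtain ⟨g, c⟩ := q
    refine Prod.ext ?_ (Subtype.ext ((hinv _ _ (hrepT _)).trans (hrepπ _)))
    simp only [inv_mul_cancel_right]

variable {F : Type*} [Field F] [Fintype F] {m : ℕ}

/-- The ambient space. -/
abbrev Vc (F : Type*) (m : ℕ) := Fin m ⊕ Fin m → F
/-- The group. -/
abbrev Gp (F : Type*) [Field F] (m : ℕ) := Matrix.symplecticGroup (Fin m) F

/-- `X^⊥`. -/
noncomputable def perp (X : Submodule F (Vc F m)) : Submodule F (Vc F m) :=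
  LinearMap.BilinForm.orthogonal (sympB m F) X

/-- The radical. -/
noncomputable def rad (X : Submodule F (Vc F m)) : Submodule F (Vc F m) := X ⊓ perp X

theorem mem_perp {X : Submodule F (Vc F m)} {v : Vc F m} :
    v ∈ perp X ↔ ∀ x ∈ X, sympB m F x v = 0 := Iff.rfl

theorem finrank_perp (X : Submodule F (Vc F m)) :
    finrank F (perp X) = 2 * m - finrank F X := by
  rw [perp, LinearMap.BilinForm.finrank_orthogonal sympB_nondeg]; simp [two_mul]

theorem finrank_le (X : Submodule F (Vc F m)) : finrank F X ≤ 2 * m := by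
  have := Submodule.finrank_le X; simpa [two_mul] using this

theorem rad_add_le (X : Submodule F (Vc F m)) : finrank F X + finrank F (rad X) ≤ 2 * m := by
  have h1 : finrank F (rad X) ≤ finrank F (perp X) := Submodule.finrank_mono inf_le_right
  rw [finrank_perp] at h1
  have := finrank_le X
  omega

theorem perp_perp (X : Submodule F (Vc F m)) : perp (perp X) = X :=
  LinearMap.BilinForm.orthogonal_orthogonal sympB_nondeg sympB_alt.isRefl X

theorem perp_rad (X : Submodule F (Vc F m)) : perp (rad X) = X ⊔ perp X := by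
  refine (Submodule.eq_of_le_of_finrank_le (sup_le ?_ ?_) ?_).symm
  · conv_lhs => rw [← perp_perp X]
    exact LinearMap.BilinForm.orthogonal_le inf_le_right
  · exact LinearMap.BilinForm.orthogonal_le inf_le_left
  · have h := Submodule.finrank_sup_add_finrank_inf_eq X (perp X)
    rw [finrank_perp] at h ⊢
    have := finrank_le X
    have := finrank_le (rad X)
    show 2 * m - finrank F ↥(rad X) ≤ _
    change finrank F ↥(X ⊔ perp X) + finrank F ↥(rad X) = _ at h
    omega

theorem finrank_sup_singleton {X : Submodule F (Vc F m)} {v : Vc F m} (hv : v ∉ X) :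
    finrank F ↥(X ⊔ F ∙ v) = finrank F X + 1 := by
  have h0 : v ≠ 0 := fun h => hv (h ▸ X.zero_mem)
  have hd : X ⊓ (F ∙ v) = ⊥ := by
    rw [← disjoint_iff, Submodule.disjoint_span_singleton' h0]; exact hv
  have h := Submodule.finrank_sup_add_finrank_inf_eq X (F ∙ v)
  rw [hd, finrank_bot, finrank_span_singleton h0, add_zero] at h
  exact h

theorem rad_type1 {X : Submodule F (Vc F m)} {v : Vc F m} (hv : v ∉ X) (hv' : v ∈ X ⊔ perp X) :
    finrank F (rad (X ⊔ F ∙ v)) = finrank F (rad X) + 1 := by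
  obtain ⟨c, hc, p, hp, rfl⟩ := Submodule.mem_sup.1 hv'
  have hpX : p ∉ X := fun h => hv (X.add_mem hc h)
  have hsup : X ⊔ F ∙ (c + p) = X ⊔ F ∙ p := by
    apply le_antisymm <;> refine sup_le le_sup_left ?_ <;>
      rw [Submodule.span_singleton_le_iff_mem, Submodule.mem_sup]
    · exact ⟨c, hc, p, Submodule.mem_span_singleton_self p, rfl⟩
    · exact ⟨-c, X.neg_mem hc, c + p, Submodule.mem_span_singleton_self _, by abel⟩
  have hr : rad (X ⊔ F ∙ p) = rad X ⊔ F ∙ p := by
    apply le_antisymm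
    · intro z hz
      obtain ⟨hz1, hz2⟩ := hz
      obtain ⟨x, hx, w, hw, rfl⟩ := Submodule.mem_sup.1 hz1
      refine Submodule.mem_sup.2 ⟨x, ⟨hx, mem_perp.2 fun y hy => ?_⟩, w, hw, rfl⟩
      have h := mem_perp.1 hz2 y (Submodule.mem_sup_left hy)
      obtain ⟨t, rfl⟩ := Submodule.mem_span_singleton.1 hw
      rw [map_add, map_smul, mem_perp.1 hp y hy, smul_zero, add_zero] at h
      exact h
    · refine sup_le (fun z hz => ⟨Submodule.mem_sup_left hz.1, mem_perp.2 fun y hy => ?_⟩) ?_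
      · obtain ⟨x, hx, w, hw, rfl⟩ := Submodule.mem_sup.1 hy
        obtain ⟨t, rfl⟩ := Submodule.mem_span_singleton.1 hw
        have h1 : sympB m F x z = 0 := mem_perp.1 hz.2 x hx
        have h2 : sympB m F p z = 0 := sympB_alt.isRefl _ _ (mem_perp.1 hp z hz.1)
        simp [h1, h2]
      · rw [Submodule.span_singleton_le_iff_mem]
        refine ⟨Submodule.mem_sup_right (Submodule.mem_span_singleton_self p), mem_perp.2 fun y hy => ?_⟩
        obtain ⟨x, hx, w, hw, rfl⟩ := Submodule.mem_sup.1 hy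
        obtain ⟨t, rfl⟩ := Submodule.mem_span_singleton.1 hw
        simp [mem_perp.1 hp x hx, sympB_alt p]
  rw [hsup, hr]
  exact finrank_sup_singleton fun h => hpX (Submodule.mem_inf.1 h).1

theorem rad_type2 {X : Submodule F (Vc F m)} {v : Vc F m} (hv' : v ∉ X ⊔ perp X) :
    finrank F (rad (X ⊔ F ∙ v)) + 1 = finrank F (rad X) := by
  let φ : rad X →ₗ[F] F := ((sympB m F).flip v).comp (rad X).subtype
  have hφ : ∀ x : rad X, φ x = sympB m F x v := fun _ => rfl
  have hne : φ ≠ 0 := fun h => hv' (by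
    rw [← perp_rad, mem_perp]
    intro x hx
    exact LinearMap.congr_fun h ⟨x, hx⟩)
  have hr : rad (X ⊔ F ∙ v) = (LinearMap.ker φ).map (rad X).subtype := by
    ext z
    constructor
    · rintro ⟨hz1, hz2⟩
      obtain ⟨x, hx, w, hw, rfl⟩ := Submodule.mem_sup.1 hz1
      obtain ⟨t, rfl⟩ := Submodule.mem_span_singleton.1 hw
      by_cases ht : t = 0
      · subst ht
        rw [zero_smul, add_zero] at hz2 ⊢
        refine ⟨⟨x, hx, mem_perp.2 fun y hy => mem_perp.1 hz2 y (Submodule.mem_sup_left hy)⟩, ?_, rfl⟩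
        rw [SetLike.mem_coe, LinearMap.mem_ker, hφ]
        exact sympB_alt.isRefl _ _
          (mem_perp.1 hz2 v (Submodule.mem_sup_right (Submodule.mem_span_singleton_self v)))
      · exfalso
        have hw' : x + t • v ∈ perp X :=
          mem_perp.2 fun y hy => mem_perp.1 hz2 y (Submodule.mem_sup_left hy)
        apply hv'
        have : v = t⁻¹ • (-x + (x + t • v)) := by rw [neg_add_cancel_left, smul_smul, inv_mul_cancel₀ ht, one_smul]
        rw [this]
        exact Submodule.smul_mem _ _ (Submodule.add_mem_sup (X.neg_mem hx) hw')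
    · rintro ⟨x, hx, rfl⟩
      refine ⟨Submodule.mem_sup_left x.2.1, mem_perp.2 fun y hy => ?_⟩
      obtain ⟨y₁, hy₁, w, hw, rfl⟩ := Submodule.mem_sup.1 hy
      obtain ⟨t, rfl⟩ := Submodule.mem_span_singleton.1 hw
      rw [SetLike.mem_coe, LinearMap.mem_ker, hφ] at hx
      have h2 : sympB m F v (x : Vc F m) = 0 := sympB_alt.isRefl _ _ hx
      simp [mem_perp.1 x.2.2 y₁ hy₁, h2]
  have h := LinearMap.finrank_range_add_finrank_ker φ
  have hrg : finrank F (LinearMap.range φ) = 1 := by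
    have h1 : finrank F (LinearMap.range φ) ≤ 1 :=
      (Submodule.finrank_le _).trans (le_of_eq (Module.finrank_self F))
    have h2 : finrank F (LinearMap.range φ) ≠ 0 := fun h0 =>
      hne (LinearMap.range_eq_bot.1 (Submodule.finrank_eq_zero.1 h0))
    omega
  rw [hr, Submodule.finrank_map_subtype_eq]
  omega

/-- Pointwise stabiliser. -/
def fixer (X : Submodule F (Vc F m)) : Subgroup (Gp F m) where
  carrier := {g | ∀ x ∈ X, g.1 *ᵥ x = x}
  one_mem' := fun x _ => SympGen.one_apply x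
  mul_mem' := fun {a b} ha hb x hx => by rw [SympGen.mul_apply, hb x hx, ha x hx]
  inv_mem' := fun {a} ha x hx => by
    conv_lhs => rw [← ha x hx]
    rw [← SympGen.mul_apply, inv_mul_cancel, SympGen.one_apply]

theorem sympB_map (g : Gp F m) (u v : Vc F m) :
    sympB m F (g.1 *ᵥ u) (g.1 *ᵥ v) = sympB m F u v := by
  rw [sympB_apply, sympB_apply]; exact SympGen.B_map g u v

theorem move {X : Submodule F (Vc F m)} {v w : Vc F m} (hv : v ∉ X) (hw : w ∉ X)
    (h : v - w ∈ perp X) : ∃ g ∈ fixer X, g.1 *ᵥ v = w := by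
  obtain ⟨e, he, heX, hev⟩ := Cfsg.Agent.S0749.move (sympB m F) sympB_nondeg sympB_alt X hv hw
    (fun z hz => sub_eq_zero.1 (by rw [← map_sub]; exact mem_perp.1 h z hz))
  obtain ⟨g, hg⟩ := symp_extend ⊤ ((e : Vc F m →ₗ[F] Vc F m).comp (Submodule.subtype ⊤))
    (e.injective.comp Subtype.val_injective) (fun x x' => by
      rw [← sympB_apply, ← sympB_apply]; exact he _ _)
  exact ⟨g, fun x hx => (hg ⟨x, trivial⟩).trans (heX x hx), (hg ⟨v, trivial⟩).trans hev⟩

/-- Linearly independent tuples. -/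
abbrev Fr (F : Type*) [Field F] (m d : ℕ) := {f : Fin d → Vc F m // LinearIndependent F f}

/-- Span of a tuple. -/
abbrev sp {d : ℕ} (f : Fr F m d) : Submodule F (Vc F m) := Submodule.span F (Set.range f.1)

/-- Pairs of a group element and a fixed tuple with radical of dimension `r`. -/
noncomputable def Wc (F : Type*) [Field F] (m d r : ℕ) : ℕ :=
  Nat.card {p : Gp F m × Fr F m d // (∀ i, p.1.1 *ᵥ p.2.1 i = p.2.1 i) ∧ finrank F (rad (sp p.2)) = r}

theorem mem_fixer_sp {d : ℕ} {f : Fr F m d} {g : Gp F m} :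
    g ∈ fixer (sp f) ↔ ∀ i, g.1 *ᵥ f.1 i = f.1 i := by
  refine ⟨fun h i => h _ (Submodule.subset_span ⟨i, rfl⟩), fun h x hx => ?_⟩
  induction hx using Submodule.span_induction with
  | mem y hy => obtain ⟨i, rfl⟩ := hy; exact h i
  | zero => exact Matrix.mulVec_zero _
  | add y z _ _ hy hz => rw [Matrix.mulVec_add, hy, hz]
  | smul c y _ hy => rw [Matrix.mulVec_smul, hy]

theorem Wc_eq (d r : ℕ) [Fintype (Fr F m d)] :
    Wc F m d r = ∑ f : Fr F m d, if finrank F (rad (sp f)) = r then Nat.card (fixer (sp f)) else 0 := by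
  classical
  rw [Wc, ← Finset.sum_filter]
  let e : {p : Gp F m × Fr F m d // (∀ i, p.1.1 *ᵥ p.2.1 i = p.2.1 i) ∧ finrank F (rad (sp p.2)) = r} ≃
      Σ f : {f : Fr F m d // finrank F (rad (sp f)) = r}, fixer (sp f.1) :=
    { toFun := fun p => ⟨⟨p.1.2, p.2.2⟩, ⟨p.1.1, mem_fixer_sp.2 p.2.1⟩⟩
      invFun := fun s => ⟨(s.2.1, s.1.1), mem_fixer_sp.1 s.2.2, s.1.2⟩
      left_inv := fun _ => rfl
      right_inv := fun _ => rfl }
  rw [Nat.card_congr e, Nat.card_sigma]
  exact (Finset.sum_subtype _ (by simp) (fun f => Nat.card (fixer (sp f)))).symm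

/-- Number of classes of extensions of a tuple. -/
def ext (q m d r r' : ℕ) : ℕ :=
  (if r + 1 = r' ∧ d + r < 2 * m then q ^ (d - r) else 0) +
    if r' + 1 = r then q ^ d - q ^ (d - r) else 0

theorem classes_count (d r' : ℕ) (X : Submodule F (Vc F m)) (hX : finrank F X = d) :
    ((perp X).mkQ '' {v | v ∉ X ∧ finrank F (rad (X ⊔ F ∙ v)) = r'}).ncard =
      ext (Fintype.card F) m d (finrank F (rad X)) r' := by
  classical
  set r := finrank F (rad X) with hr
  have hle := finrank_le X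
  have hrd : r ≤ d := hX ▸ Submodule.finrank_mono inf_le_left
  set Im : Submodule F (Vc F m ⧸ perp X) := X.map (perp X).mkQ with hIm
  have hquot : finrank F (Vc F m ⧸ perp X) = d := by
    have := Submodule.finrank_quotient_add_finrank (perp X)
    rw [finrank_perp, hX] at this
    simp [two_mul] at this
    omega
  have hImd : finrank F Im = d - r := by
    have h := LinearMap.finrank_range_add_finrank_ker ((perp X).mkQ.comp X.subtype)
    rw [LinearMap.range_comp, Submodule.range_subtype, LinearMap.ker_comp, Submodule.ker_mkQ, hX] at h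
    have h2 : finrank F ↥(Submodule.comap X.subtype (perp X)) = r := by
      rw [hr, rad, ← Submodule.map_comap_subtype, Submodule.finrank_map_subtype_eq]
    rw [h2] at h
    show finrank F ↥(Submodule.map (perp X).mkQ X) = _
    omega
  have hqI : (Im : Set (Vc F m ⧸ perp X)).ncard = Fintype.card F ^ (d - r) := by
    rw [← Nat.card_coe_set_eq]
    show Nat.card Im = _
    rw [Module.natCard_eq_pow_finrank (K := F), hImd, Nat.card_eq_fintype_card]
  have hmemI : ∀ v, (perp X).mkQ v ∈ Im ↔ v ∈ X ⊔ perp X := fun v => by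
    rw [← Submodule.mem_comap, hIm, Submodule.comap_map_mkQ, sup_comm]
  have hT : {v | v ∉ X ∧ finrank F (rad (X ⊔ F ∙ v)) = r'} =
      {v | v ∉ X ∧ v ∈ X ⊔ perp X ∧ r + 1 = r'} ∪ {v | v ∉ X ⊔ perp X ∧ r' + 1 = r} := by
    ext v
    simp only [Set.mem_setOf_eq, Set.mem_union]
    by_cases hv : v ∈ X ⊔ perp X
    · constructor
      · rintro ⟨h1, h2⟩; exact Or.inl ⟨h1, hv, by rw [← h2, rad_type1 h1 hv]⟩
      · rintro (⟨h1, -, h3⟩ | ⟨h1, -⟩)
        · exact ⟨h1, by rw [rad_type1 h1 hv]; exact h3⟩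
        · exact absurd hv h1
    · have h2 := rad_type2 hv
      constructor
      · rintro ⟨-, h⟩; exact Or.inr ⟨hv, by rw [← h]; exact h2⟩
      · rintro (⟨-, h, -⟩ | ⟨-, h⟩)
        · exact absurd h hv
        · exact ⟨fun hx => hv (Submodule.mem_sup_left hx), by omega⟩
  have h1 : ((perp X).mkQ '' {v | v ∉ X ∧ v ∈ X ⊔ perp X ∧ r + 1 = r'}) =
      if r + 1 = r' ∧ d + r < 2 * m then (Im : Set (Vc F m ⧸ perp X)) else ∅ := by
    split
    · next h =>
      have hnle : ¬ perp X ≤ X := fun hle' => by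
        have h' : perp X ≤ rad X := le_inf hle' le_rfl
        have := Submodule.finrank_mono h'
        rw [finrank_perp, hX] at this
        omega
      obtain ⟨p, hp, hpX⟩ := SetLike.not_le_iff_exists.1 hnle
      ext c
      constructor
      · rintro ⟨v, ⟨-, hv, -⟩, rfl⟩; exact (hmemI v).2 hv
      · rintro ⟨x, hx, rfl⟩
        refine ⟨x + p, ⟨fun h' => hpX (by simpa using X.sub_mem h' hx),
          Submodule.add_mem_sup hx hp, h.1⟩, ?_⟩
        rw [map_add]
        simp [hp]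
    · next h =>
      rw [Set.image_eq_empty, Set.eq_empty_iff_forall_notMem]
      rintro v ⟨hvX, hv, hr'⟩
      have hlt : ¬ d + r < 2 * m := fun hh => h ⟨hr', hh⟩
      have heq : rad X = perp X := Submodule.eq_of_le_of_finrank_le inf_le_right (by
        rw [finrank_perp, hX]; omega)
      have : X ⊔ perp X = X := sup_eq_left.2 (heq ▸ inf_le_left)
      exact hvX (this ▸ hv)
  have h2 : ((perp X).mkQ '' {v | v ∉ X ⊔ perp X ∧ r' + 1 = r}) =
      if r' + 1 = r then (Im : Set (Vc F m ⧸ perp X))ᶜ else ∅ := by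
    split
    · next h =>
      ext c
      obtain ⟨v, rfl⟩ := (perp X).mkQ_surjective c
      constructor
      · rintro ⟨w, ⟨hw, -⟩, hwe⟩ hc
        exact hw ((hmemI w).1 (hwe ▸ hc))
      · intro hc
        exact ⟨v, ⟨fun hv => hc ((hmemI v).2 hv), h⟩, rfl⟩
    · next h => simp [h]
  rw [hT, Set.image_union, h1, h2, ext, Set.ncard_union_eq]
  · have hcompl : ((Im : Set (Vc F m ⧸ perp X))ᶜ).ncard = Fintype.card F ^ d - Fintype.card F ^ (d - r) := by
      rw [Set.ncard_compl, Module.natCard_eq_pow_finrank (K := F) (V := Vc F m ⧸ perp X), hquot,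
        Nat.card_eq_fintype_card, hqI]
    congr 1 <;> split <;> simp [hqI, hcompl]
  · split <;> split <;> first | exact disjoint_compl_right | simp

theorem Wc_succ (d r' : ℕ) [Fintype (Fr F m d)] :
    Wc F m (d + 1) r' = ∑ f : Fr F m d,
      Nat.card (fixer (sp f)) * ext (Fintype.card F) m d (finrank F (rad (sp f))) r' := by
  classical
  have hsp : ∀ (f : Fr F m d) (v : Vc F m),
      Submodule.span F (Set.range (Fin.snoc f.1 v : Fin (d + 1) → Vc F m)) = sp f ⊔ F ∙ v := by
    intro f v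
    rw [Fin.range_snoc, Submodule.span_insert, sup_comm]
  let e : {p : Gp F m × Fr F m (d + 1) // (∀ i, p.1.1 *ᵥ p.2.1 i = p.2.1 i) ∧
      finrank F (rad (sp p.2)) = r'} ≃
      {x : Fr F m d × Gp F m × Vc F m // x.2.1 ∈ fixer (sp x.1) ∧
        (x.2.2 ∈ {v | v ∉ sp x.1 ∧ finrank F (rad (sp x.1 ⊔ F ∙ v)) = r'} ∧ x.2.1.1 *ᵥ x.2.2 = x.2.2)} :=
    { toFun := fun p =>
        have hl := linearIndependent_finSnoc.1 (by rw [Fin.snoc_init_self]; exact p.1.2.2 :
          LinearIndependent F (Fin.snoc (Fin.init p.1.2.1) (p.1.2.1 (Fin.last d)) : Fin (d + 1) → Vc F m))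
        ⟨(⟨Fin.init p.1.2.1, hl.1⟩, p.1.1, p.1.2.1 (Fin.last d)), mem_fixer_sp.2 fun i => p.2.1 i.castSucc,
          ⟨hl.2, by rw [← hsp ⟨_, hl.1⟩, Fin.snoc_init_self]; exact p.2.2⟩, p.2.1 _⟩
      invFun := fun s => ⟨(s.1.2.1, ⟨Fin.snoc s.1.1.1 s.1.2.2,
          linearIndependent_finSnoc.2 ⟨s.1.1.2, s.2.2.1.1⟩⟩),
        fun i => by
          refine Fin.lastCases ?_ (fun i => ?_) i <;> simp only [Fin.snoc_last, Fin.snoc_castSucc]
          · exact s.2.2.2
          · exact mem_fixer_sp.1 s.2.1 i,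
        by show finrank F (rad (Submodule.span F _)) = r'; rw [hsp]; exact s.2.2.1.2⟩
      left_inv := fun p => Subtype.ext (Prod.ext rfl (Subtype.ext (Fin.snoc_init_self p.1.2.1)))
      right_inv := fun s => by
        obtain ⟨⟨⟨f, hf⟩, g, v⟩, hv⟩ := s
        simp [Fin.init_snoc, Fin.snoc_last] }
  let e2 : {x : Fr F m d × Gp F m × Vc F m // x.2.1 ∈ fixer (sp x.1) ∧
        (x.2.2 ∈ {v | v ∉ sp x.1 ∧ finrank F (rad (sp x.1 ⊔ F ∙ v)) = r'} ∧ x.2.1.1 *ᵥ x.2.2 = x.2.2)} ≃
      Σ f : Fr F m d, {p : fixer (sp f) × Vc F m //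
        p.2 ∈ {v | v ∉ sp f ∧ finrank F (rad (sp f ⊔ F ∙ v)) = r'} ∧ p.1.1.1 *ᵥ p.2 = p.2} :=
    { toFun := fun x => ⟨x.1.1, (⟨x.1.2.1, x.2.1⟩, x.1.2.2), x.2.2⟩
      invFun := fun s => ⟨(s.1, s.2.1.1.1, s.2.1.2), s.2.1.1.2, s.2.2⟩
      left_inv := fun _ => rfl
      right_inv := fun _ => rfl }
  rw [Wc, Nat.card_congr (e.trans e2), Nat.card_sigma]
  refine Finset.sum_congr rfl fun f _ => ?_
  rw [pairs_count (H := fixer (sp f)) (fun g v => g.1.1 *ᵥ v) SympGen.one_apply
    (fun g h v => SympGen.mul_apply _ _ _) _ ?_ (perp (sp f)).mkQ ?_ ?_,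
    classes_count d r' (sp f) ((finrank_span_eq_card f.2).trans (Fintype.card_fin d))]
  · rintro ⟨g, hg⟩ v ⟨hv1, hv2⟩
    have hX : g.1 *ᵥ v ∉ sp f := fun h => hv1 (by
      have : v = g⁻¹.1 *ᵥ (g.1 *ᵥ v) := by rw [← SympGen.mul_apply, inv_mul_cancel, SympGen.one_apply]
      rw [this, (fixer (sp f)).inv_mem hg _ h]; exact h)
    refine ⟨hX, ?_⟩
    have hsub : g.1 *ᵥ v - v ∈ perp (sp f) := mem_perp.2 fun x hx => by
      rw [map_sub, sub_eq_zero]
      conv_lhs => rw [← hg x hx]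
      exact sympB_map g x v
    have hiff : g.1 *ᵥ v ∈ sp f ⊔ perp (sp f) ↔ v ∈ sp f ⊔ perp (sp f) := by
      constructor <;> intro h
      · simpa using Submodule.sub_mem _ h (Submodule.mem_sup_right hsub)
      · simpa using Submodule.add_mem _ h (Submodule.mem_sup_right hsub)
    by_cases hv : v ∈ sp f ⊔ perp (sp f)
    · rw [rad_type1 hX (hiff.2 hv), ← rad_type1 hv1 hv]; exact hv2
    · have e1 := rad_type2 hv
      have e2 := rad_type2 (mt hiff.1 hv)
      show finrank F (rad (sp f ⊔ F ∙ (g.1 *ᵥ v))) = r'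
      omega
  · rintro ⟨g, hg⟩ v -
    refine (Submodule.Quotient.eq _).2 (mem_perp.2 fun x hx => ?_)
    rw [map_sub, sub_eq_zero]
    conv_lhs => rw [← hg x hx]
    exact sympB_map g x v
  · intro a ha b hb hab
    obtain ⟨g, hg, hga⟩ := move ha.1 hb.1 ((Submodule.Quotient.eq _).1 hab)
    exact ⟨⟨g, hg⟩, hga⟩

end CfsgLib.SympUnipCount
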