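import Cfsg.Agent.Lib.SympUnipCount.Frames

/-!
The number of symplectic matrices without a non-zero fixed vector.
-/

set_option autoImplicit false
set_option linter.unusedSectionVars false

namespace CfsgLib.SympUnipCount

open Module Finset
open scoped Matrix
open CfsgLib.IsotropicCount (sympB)

variable {F : Type*} [Field F] [Fintype F] {m : ℕ}

theorem Qq_succ (q : ℝ) (n : ℕ) : Qq q (n + 1) = Qq q n * (q ^ (n + 1) - 1) := prod_range_succ _ _

open Classical in
/-- Closed value of the orbit count. -/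
noncomputable def Aval (q : ℝ) (m d r : ℕ) : ℝ :=
  if ∃ s, d = 2 * s + r ∧ s + r ≤ m then Qq q d * xs q ((d - r) / 2) / Qq q r else 0

theorem Aval_pos_case {q : ℝ} {d r s : ℕ} (hd : d = 2 * s + r) (hs : s + r ≤ m) :
    Aval q m d r = Qq q d * xs q s / Qq q r := by
  rw [Aval, if_pos ⟨s, hd, hs⟩, show (d - r) / 2 = s by omega]

theorem Aval_rec_succ {q : ℝ} (hq : 1 < q) (d r : ℕ) :
    Aval q m (d + 1) (r + 1) = (if d + r < 2 * m then q ^ (d - r) else 0) * Aval q m d r +
      (q ^ d - q ^ (d - (r + 2))) * Aval q m d (r + 2) := by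
  by_cases h : ∃ s, d + 1 = 2 * s + (r + 1) ∧ s + (r + 1) ≤ m
  · obtain ⟨s, hd, hs⟩ := h
    have hd' : d = 2 * s + r := by omega
    rw [Aval_pos_case hd hs, Aval_pos_case hd' (by omega : s + r ≤ m), if_pos (by omega)]
    rcases s with _ | s
    · have : Aval q m d (r + 2) = 0 := by
        rw [Aval, if_neg]; rintro ⟨s, h1, -⟩; omega
      rw [this, mul_zero, add_zero, show d = r by omega, Nat.sub_self, pow_zero, one_mul]
      have := (Qq_pos hq r).ne'
      have := (Qq_pos hq (r + 1)).ne'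
      simp [xs, Pp, *]
    · rw [Aval_pos_case (s := s) (show d = 2 * s + (r + 2) by omega) (by omega)]
      rw [show d - r = 2 * s + 2 by omega, show d - (r + 2) = 2 * s by omega]
      have hx := xs_succ hq s
      have h0 : q ^ (2 * s) ≠ 0 := pow_ne_zero _ (by linarith)
      have hxs : xs q s = xs q (s + 1) * (q ^ (2 * (s + 1)) - 1) / q ^ (2 * s) := by
        rw [eq_div_iff h0, hx]; ring
      have := (Qq_pos hq r).ne'
      have := (Qq_pos hq d).ne'
      have := pow_sub_one_ne hq (r + 1) (by omega)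
      have := pow_sub_one_ne hq (r + 1 + 1) (by omega)
      rw [hxs, Qq_succ q d, Qq_succ q r, Qq_succ q (r + 1), Qq_succ q r]
      subst hd'
      field_simp
      ring
  · have e1 : (if d + r < 2 * m then q ^ (d - r) else 0) * Aval q m d r = 0 := by
      by_cases hlt : d + r < 2 * m
      · rw [Aval, if_neg (show ¬ ∃ s, d = 2 * s + r ∧ s + r ≤ m from fun ⟨s, h1, h2⟩ =>
          h ⟨s, by omega, by omega⟩), mul_zero]
      · rw [if_neg hlt, zero_mul]
    rw [Aval, if_neg h, e1, Aval, if_neg]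
    · simp
    · rintro ⟨s, h1, h2⟩; exact h ⟨s + 1, by omega, by omega⟩

theorem Aval_rec_zero {q : ℝ} (hq : 1 < q) (d : ℕ) :
    Aval q m (d + 1) 0 = (q ^ d - q ^ (d - 1)) * Aval q m d 1 := by
  by_cases h : ∃ s, d + 1 = 2 * s + 0 ∧ s + 0 ≤ m
  · obtain ⟨s, hd, hs⟩ := h
    obtain ⟨s, rfl⟩ : ∃ t, s = t + 1 := ⟨s - 1, by omega⟩
    rw [Aval_pos_case hd hs, Aval_pos_case (s := s) (show d = 2 * s + 1 by omega) (by omega)]
    have hd' : d = 2 * s + 1 := by omega
    subst hd'
    have hx := xs_succ hq s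
    have := (Qq_pos hq (2 * s + 1)).ne'
    have := pow_sub_one_ne hq 1 one_ne_zero
    rw [Qq_succ q (2 * s + 1), Nat.add_sub_cancel,
      show Qq q 1 = q - 1 by simp [Qq], show Qq q 0 = 1 by simp [Qq], pow_succ q (2 * s), div_one]
    rw [show 2 * s + 1 + 1 = 2 * (s + 1) by ring]
    have h1 : q - 1 ≠ 0 := by linarith
    field_simp
    linear_combination hx
  · rw [Aval, if_neg h, Aval, if_neg]
    · simp
    · rintro ⟨s, h1, h2⟩; exact h ⟨s + 1, by omega, by omega⟩

theorem sum_ite_card {d : ℕ} [Fintype (Fr F m d)] (s : ℕ) :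
    ∑ f : Fr F m d, (if finrank F (rad (sp f)) = s then (Nat.card (fixer (sp f)) : ℝ) else 0) =
      (Wc F m d s : ℝ) := by
  rw [Wc_eq, Nat.cast_sum]
  exact Finset.sum_congr rfl fun f _ => by split <;> simp

theorem Wc_value (d r : ℕ) :
    (Wc F m d r : ℝ) = Nat.card (Gp F m) * Aval (Fintype.card F : ℝ) m d r := by
  classical
  have hq : (1 : ℝ) < Fintype.card F := by exact_mod_cast Fintype.one_lt_card (α := F)
  induction d generalizing r with
  | zero =>
    haveI : Unique (Fr F m 0) := uniqueOfSubsingleton ⟨Fin.elim0, linearIndependent_empty_type⟩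
    have hsp : sp (default : Fr F m 0) = ⊥ := by simp [sp]
    have hr : finrank F (rad (sp (default : Fr F m 0))) = 0 := by
      rw [hsp, rad, bot_inf_eq, finrank_bot]
    have hf : fixer (sp (default : Fr F m 0)) = ⊤ := by
      rw [hsp]; exact top_le_iff.1 fun g _ x hx => by simp_all
    rw [Wc_eq, Fintype.sum_unique, hr, hf]
    rcases r with _ | r
    · rw [if_pos rfl, Subgroup.card_top, Aval_pos_case (s := 0) (show 0 = 2 * 0 + 0 from rfl) (Nat.zero_le m)]
      simp [xs, Pp, Qq]
    · rw [if_neg (by omega), Aval, if_neg (by rintro ⟨s, h1, -⟩; omega)]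
      simp
  | succ d ih =>
    have key : ∀ r' : ℕ, (Wc F m (d + 1) r' : ℝ) = ∑ f : Fr F m d,
        ((if finrank F (rad (sp f)) + 1 = r' then
          (if d + finrank F (rad (sp f)) < 2 * m then
            (Fintype.card F : ℝ) ^ (d - finrank F (rad (sp f))) else 0) *
            (Nat.card (fixer (sp f)) : ℝ) else 0) +
        (if finrank F (rad (sp f)) = r' + 1 then
          ((Fintype.card F : ℝ) ^ d - (Fintype.card F : ℝ) ^ (d - finrank F (rad (sp f)))) *
            (Nat.card (fixer (sp f)) : ℝ) else 0)) := by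
      intro r'
      rw [Wc_succ, Nat.cast_sum]
      refine Finset.sum_congr rfl fun f _ => ?_
      rw [Nat.cast_mul, ext, Nat.cast_add, mul_add]
      congr 1
      · by_cases h1 : finrank F (rad (sp f)) + 1 = r' <;>
          by_cases h2 : d + finrank F (rad (sp f)) < 2 * m <;> simp [h1, h2, mul_comm]
      · by_cases h1 : finrank F (rad (sp f)) = r' + 1
        · rw [if_pos h1.symm, if_pos h1, Nat.cast_sub (Nat.pow_le_pow_right Fintype.card_pos (Nat.sub_le _ _)),
            Nat.cast_pow, Nat.cast_pow, mul_comm]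
        · rw [if_neg (Ne.symm h1), if_neg h1, Nat.cast_zero, mul_zero]
    have hsum : ∀ (s : ℕ) (c : ℕ → ℝ), ∑ f : Fr F m d, (if finrank F (rad (sp f)) = s then
        c (finrank F (rad (sp f))) * (Nat.card (fixer (sp f)) : ℝ) else 0) = c s * Wc F m d s := by
      intro s c
      rw [← sum_ite_card (d := d) s, mul_sum]
      refine Finset.sum_congr rfl fun f _ => ?_
      split
      · next h => rw [h]
      · simp
    rw [key, sum_add_distrib, hsum (r + 1) fun x => (Fintype.card F : ℝ) ^ d - (Fintype.card F : ℝ) ^ (d - x)]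
    rcases r with _ | r
    · rw [Finset.sum_eq_zero (fun f _ => if_neg (by omega)), zero_add, ih, Aval_rec_zero hq d]
      ring
    · simp only [Nat.succ_inj]
      rw [hsum r fun x => if d + x < 2 * m then (Fintype.card F : ℝ) ^ (d - x) else 0, ih, ih,
        Aval_rec_succ hq d r]
      ring

/-- No non-zero fixed vector. -/
def NoFix (g : Gp F m) : Prop := ∀ v : Vc F m, g.1 *ᵥ v = v → v = 0

theorem fixed_frames (g : Gp F m) (d : ℕ) :
    (Nat.card {f : Fr F m d // ∀ i, g.1 *ᵥ f.1 i = f.1 i} : ℝ) =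
      hh (Fintype.card F : ℝ) (finrank F (LinearMap.ker (Matrix.mulVecLin g.1 - 1))) d *
        Qq (Fintype.card F : ℝ) d := by
  set E := LinearMap.ker (Matrix.mulVecLin g.1 - 1) with hE
  have hq : (1 : ℝ) < Fintype.card F := by exact_mod_cast Fintype.one_lt_card (α := F)
  have hm : ∀ v, v ∈ E ↔ g.1 *ᵥ v = v := fun v => by
    simp [hE, LinearMap.mem_ker, sub_eq_zero]
  let e : {f : Fr F m d // ∀ i, g.1 *ᵥ f.1 i = f.1 i} ≃ {s : Fin d → E // LinearIndependent F s} :=
    { toFun := fun f => ⟨fun i => ⟨f.1.1 i, (hm _).2 (f.2 i)⟩, LinearIndependent.of_comp E.subtype f.1.2⟩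
      invFun := fun s => ⟨⟨fun i => (s.1 i : Vc F m), s.2.map' E.subtype (Submodule.ker_subtype _)⟩,
        fun i => (hm _).1 (s.1 i).2⟩
      left_inv := fun _ => rfl
      right_inv := fun _ => rfl }
  rw [Nat.card_congr e, hh, div_mul_cancel₀ _ (Qq_pos hq d).ne']
  by_cases h : d ≤ finrank F E
  · rw [card_linearIndependent h, Fin.prod_univ_eq_prod_range (fun i => Fintype.card F ^ finrank F E - Fintype.card F ^ i),
      Nat.cast_prod]
    refine Finset.prod_congr rfl fun i hi => ?_
    rw [Nat.cast_sub (Nat.pow_le_pow_right Fintype.card_pos (by simp at hi; omega)), Nat.cast_pow, Nat.cast_pow]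
  · haveI : IsEmpty {s : Fin d → E // LinearIndependent F s} :=
      ⟨fun s => h (by simpa using s.2.fintype_card_le_finrank)⟩
    rw [Nat.card_of_isEmpty, Nat.cast_zero,
      Finset.prod_eq_zero (Finset.mem_range.2 (show finrank F E < d by omega)) (sub_self _)]

theorem card_noFix (m : ℕ) :
    (Nat.card {g : Gp F m // NoFix g} : ℝ) =
      Nat.card (Gp F m) * ∑ j ∈ range (m + 1), cs (Fintype.card F : ℝ) j := by
  classical
  set q : ℝ := (Fintype.card F : ℝ) with hqdef
  have hq : (1 : ℝ) < q := by rw [hqdef]; exact_mod_cast Fintype.one_lt_card (α := F)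
  have hind : ∀ g : Gp F m, (if NoFix g then (1 : ℝ) else 0) = ∑ d ∈ range (2 * m + 1),
      (-1 : ℝ) ^ d / Qq q d * (Nat.card {f : Fr F m d // ∀ i, g.1 *ᵥ f.1 i = f.1 i} : ℝ) := by
    intro g
    have he := finrank_le (LinearMap.ker (Matrix.mulVecLin g.1 - 1))
    have hiff : NoFix g ↔ finrank F (LinearMap.ker (Matrix.mulVecLin g.1 - 1)) = 0 := by
      rw [Submodule.finrank_eq_zero, LinearMap.ker_eq_bot']
      simp [NoFix, sub_eq_zero]
    rw [Finset.sum_congr rfl fun d _ => show (-1 : ℝ) ^ d / Qq q d *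
        (Nat.card {f : Fr F m d // ∀ i, g.1 *ᵥ f.1 i = f.1 i} : ℝ) = (-1 : ℝ) ^ d *
          hh q (finrank F (LinearMap.ker (Matrix.mulVecLin g.1 - 1))) d from by
      rw [fixed_frames, hqdef]; exact (by have h0 := (Qq_pos (hqdef ▸ hq) d).ne'; field_simp), hh_alt hq _ _ (Nat.lt_succ_of_le he)]
    simp [hiff]
  have h1 : (Nat.card {g : Gp F m // NoFix g} : ℝ) = ∑ g : Gp F m, if NoFix g then (1 : ℝ) else 0 := by
    rw [Nat.card_eq_fintype_card, Fintype.card_subtype, Finset.sum_boole]
  have h2 : ∀ d, ∑ g : Gp F m, (Nat.card {f : Fr F m d // ∀ i, g.1 *ᵥ f.1 i = f.1 i} : ℝ) =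
      ∑ r ∈ range (d + 1), (Wc F m d r : ℝ) := by
    intro d
    have e3 : (Σ g : Gp F m, {f : Fr F m d // ∀ i, g.1 *ᵥ f.1 i = f.1 i}) ≃ Σ f : Fr F m d, fixer (sp f) :=
      { toFun := fun s => ⟨s.2.1, s.1, mem_fixer_sp.2 s.2.2⟩
        invFun := fun s => ⟨s.2.1, s.1, mem_fixer_sp.1 s.2.2⟩
        left_inv := fun _ => rfl
        right_inv := fun _ => rfl }
    rw [← Nat.cast_sum, ← Nat.card_sigma, Nat.card_congr e3, Nat.card_sigma, Nat.cast_sum,
      Finset.sum_congr rfl fun r _ => (sum_ite_card (F := F) (m := m) (d := d) r).symm, Finset.sum_comm]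
    refine Finset.sum_congr rfl fun f _ => ?_
    rw [Finset.sum_ite_eq, if_pos]
    rw [mem_range, Nat.lt_succ_iff]
    exact (Submodule.finrank_mono (inf_le_left : rad (sp f) ≤ sp f)).trans
      ((finrank_span_eq_card f.2).trans (Fintype.card_fin d)).le
  rw [h1, Finset.sum_congr rfl fun g _ => hind g, Finset.sum_comm]
  rw [Finset.sum_congr rfl fun d _ => by rw [← mul_sum, h2 d, mul_sum]]
  simp only [Wc_value, ← hqdef]
  rw [Finset.sum_congr rfl (g := fun j => conv q j) fun j _ => (conv_eq hq j).symm]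
  rw [mul_sum, Finset.sum_sigma' (range (2 * m + 1))]
  conv_rhs => rw [Finset.sum_congr rfl fun j _ => by rw [conv, mul_sum], Finset.sum_sigma' (range (m + 1))]
  symm
  refine Finset.sum_bij_ne_zero (fun x _ _ => ⟨2 * x.2.1 + x.2.2, x.2.2⟩) ?_ ?_ ?_ ?_
  · intro x hx _
    simp only [mem_sigma, mem_range, HasAntidiagonal.mem_antidiagonal] at hx ⊢
    omega
  · intro x hx _ y hy _ hxy
    simp only [mem_sigma, mem_range, HasAntidiagonal.mem_antidiagonal] at hx hy
    obtain ⟨n, s, r⟩ := x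
    obtain ⟨n', s', r'⟩ := y
    simp only at hx hy
    simp only [Sigma.mk.injEq, heq_eq_eq] at hxy
    obtain rfl : r = r' := hxy.2
    obtain rfl : s = s' := by omega
    obtain rfl : n = n' := by omega
    rfl
  · rintro ⟨d, r⟩ hb hne
    simp only [mem_sigma, mem_range] at hb
    have hA : Aval q m d r ≠ 0 := fun h => hne (by simp [h])
    obtain ⟨s, hd, hs⟩ : ∃ s, d = 2 * s + r ∧ s + r ≤ m := by
      by_contra h; exact hA (by rw [Aval, if_neg h])
    refine ⟨⟨s + r, s, r⟩, by simp; omega, ?_, by simp [hd]⟩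
    intro h0
    apply hne
    rw [Aval_pos_case hd hs]
    have := (Qq_pos hq r).ne'
    simp only [mul_eq_zero, Nat.cast_eq_zero, ys, div_eq_zero_iff, pow_eq_zero_iff', neg_eq_zero,
      one_ne_zero, false_and, false_or, this, or_false] at h0 ⊢
    tauto
  · intro x hx _
    simp only [mem_sigma, mem_range, HasAntidiagonal.mem_antidiagonal] at hx
    obtain ⟨n, s, r⟩ := x
    simp only at hx ⊢
    rw [Aval_pos_case rfl (by omega : s + r ≤ m), ys, pow_add, pow_mul]
    have := (Qq_pos hq (2 * s + r)).ne'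
    simp only [neg_one_sq, one_pow, one_mul]
    field_simp

end CfsgLib.SympUnipCount
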